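import Groth.Agent.Lib.RelFPH13.Geo
import Groth.Agent.Lib.ModM1.Exact
import Groth.Agent.Lib.ModM1.FT

set_option autoImplicit false
set_option linter.style.haveILetI false
set_option linter.unusedSectionVars false
universe u

open AlgebraicGeometry CategoryTheory Limits TopologicalSpace Opposite
open Groth.Agent

namespace RelFPH13

section alg

variable {R A : Type u} [CommRing R] [CommRing A] [Algebra R A] {M₁ M₂ M₃ : Type u}
  [AddCommGroup M₁] [Module A M₁] [AddCommGroup M₂] [Module A M₂] [AddCommGroup M₃] [Module A M₃]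
  (a : M₁ →ₗ[A] M₂) (b : M₂ →ₗ[A] M₃)

theorem rfp_of_extremes (ha : Function.Injective a) (hab : Function.Exact a b)
    (hb : Function.Surjective b) (h₁ : FlatCA.RelFinitePresentation R A M₁)
    (h₃ : FlatCA.RelFinitePresentation R A M₃) : FlatCA.RelFinitePresentation R A M₂ := by
  obtain ⟨n, α, hα, h3⟩ := h₃
  have h1 : FPVia α.toRingHom M₁ := (rfp_iff α hα).1 h₁
  refine ⟨n, α, hα, ?_⟩
  let P := MvPolynomial (Fin n) R
  letI : Algebra P A := α.toRingHom.toAlgebra
  letI : Module P M₁ := Module.compHom M₁ α.toRingHom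
  letI : Module P M₂ := Module.compHom M₂ α.toRingHom
  letI : Module P M₃ := Module.compHom M₃ α.toRingHom
  haveI : IsScalarTower P A M₁ := IsScalarTower.of_algebraMap_smul fun _ _ => rfl
  haveI : IsScalarTower P A M₂ := IsScalarTower.of_algebraMap_smul fun _ _ => rfl
  haveI : IsScalarTower P A M₃ := IsScalarTower.of_algebraMap_smul fun _ _ => rfl
  haveI : Module.FinitePresentation P M₁ := h1
  haveI : Module.FinitePresentation P M₃ := h3
  haveI : Module.FinitePresentation P (LinearMap.ker (b.restrictScalars P)) :=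
    Module.FinitePresentation.of_equiv
      ((LinearEquiv.ofInjective (a.restrictScalars P) ha).trans (LinearEquiv.ofEq _ _ (by
        rw [LinearMap.exact_iff.1 (show Function.Exact (a.restrictScalars P) (b.restrictScalars P)
          from hab)])))
  exact Module.finitePresentation_of_ker (b.restrictScalars P) hb

theorem rfp_quotient (hab : Function.Exact a b) (hb : Function.Surjective b) [Module.Finite A M₁]
    (h₂ : FlatCA.RelFinitePresentation R A M₂) : FlatCA.RelFinitePresentation R A M₃ := by
  obtain ⟨n, α, hα, h2⟩ := h₂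
  refine ⟨n, α, hα, ?_⟩
  let P := MvPolynomial (Fin n) R
  letI : Algebra P A := α.toRingHom.toAlgebra
  letI : Module P M₁ := Module.compHom M₁ α.toRingHom
  letI : Module P M₂ := Module.compHom M₂ α.toRingHom
  letI : Module P M₃ := Module.compHom M₃ α.toRingHom
  haveI : IsScalarTower P A M₁ := IsScalarTower.of_algebraMap_smul fun _ _ => rfl
  haveI : IsScalarTower P A M₂ := IsScalarTower.of_algebraMap_smul fun _ _ => rfl
  haveI : IsScalarTower P A M₃ := IsScalarTower.of_algebraMap_smul fun _ _ => rfl
  haveI : Module.FinitePresentation P M₂ := h2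
  haveI : Module.Finite P A := Module.Finite.of_surjective (Algebra.linearMap P A) hα
  haveI : Module.Finite P M₁ := Module.Finite.trans A M₁
  refine Module.finitePresentation_of_surjective (b.restrictScalars P) hb ?_
  rw [LinearMap.exact_iff.1 (show Function.Exact (a.restrictScalars P) (b.restrictScalars P)
    from hab), LinearMap.range_eq_map]
  exact Module.Finite.fg_top.map _

theorem rfp_retract (s : M₁ →ₗ[A] M₂) (r : M₂ →ₗ[A] M₁) (hrs : ∀ m, r (s m) = m)
    (h₂ : FlatCA.RelFinitePresentation R A M₂) : FlatCA.RelFinitePresentation R A M₁ := by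
  obtain ⟨n, α, hα, h2⟩ := h₂
  refine ⟨n, α, hα, ?_⟩
  let P := MvPolynomial (Fin n) R
  letI : Algebra P A := α.toRingHom.toAlgebra
  letI : Module P M₁ := Module.compHom M₁ α.toRingHom
  letI : Module P M₂ := Module.compHom M₂ α.toRingHom
  haveI : IsScalarTower P A M₁ := IsScalarTower.of_algebraMap_smul fun _ _ => rfl
  haveI : IsScalarTower P A M₂ := IsScalarTower.of_algebraMap_smul fun _ _ => rfl
  haveI : Module.FinitePresentation P M₂ := h2
  refine Module.finitePresentation_of_surjective (r.restrictScalars P)
    (fun m => ⟨s m, hrs m⟩) ?_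
  have : LinearMap.ker (r.restrictScalars P) =
      LinearMap.range ((LinearMap.id - s ∘ₗ r).restrictScalars P) := by
    ext x
    constructor
    · intro hx
      exact ⟨x, by simp [show r x = 0 from hx]⟩
    · rintro ⟨y, rfl⟩
      show r (y - s (r y)) = 0
      rw [map_sub, hrs, sub_self]
  rw [this, LinearMap.range_eq_map]
  exact Module.Finite.fg_top.map _

end alg

variable {X : Scheme.{u}}

/-- Sections of a morphism of modules over an open, as a linear map. -/
noncomputable def secMap {M N : X.Modules} (φ : M ⟶ N) (U : X.Opens) :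
    Γ(M, U) →ₗ[Γ(X, U)] Γ(N, U) where
  toFun s := φ.app U s
  map_add' := map_add _
  map_smul' r s := Scheme.Modules.Hom.app_smul φ r s

theorem exact_sections {E : ShortComplex X.Modules} (hE : E.ShortExact) (U : X.Opens) :
    Function.Exact (secMap E.f U) (secMap E.g U) := by
  haveI := hE.mono_f
  intro b
  refine ⟨fun hb => M1.sections_exact hE.exact U b hb, ?_⟩
  rintro ⟨a, rfl⟩
  show E.g.app U (E.f.app U a) = 0
  rw [← M1.comp_app_apply, E.zero]
  rfl

theorem injective_sections {E : ShortComplex X.Modules} (hE : E.ShortExact) (U : X.Opens) :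
    Function.Injective (secMap E.f U) :=
  haveI := hE.mono_f
  M1.app_injective E.f U

theorem surjective_sections {E : ShortComplex X.Modules} (hE : E.ShortExact)
    [Coh.IsQCoh E.X₂] [Coh.IsQCoh E.X₃] {U : X.Opens} (hU : IsAffineOpen U) :
    Function.Surjective (secMap E.g U) :=
  haveI := hE.epi_g
  M1.app_surjective_affine_of_isQCoh ‹Coh.IsQCoh E.X₂› ‹Coh.IsQCoh E.X₃› E.g hU

end RelFPH13
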