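import Groth.Agent.Lib.RelFPH13.Ops

set_option autoImplicit false
set_option linter.style.haveILetI false
set_option linter.unusedSectionVars false
universe u

open TensorProduct FlatCA

namespace RelFPH13

variable {R A : Type u} [CommRing R] [CommRing A] [Algebra R A]

/-- Invariance under a semilinear equivalence of pairs. -/
theorem rfp_congr {A' : Type u} [CommRing A'] [Algebra R A'] (e : A ≃ₐ[R] A')
    {M N : Type u} [AddCommGroup M] [Module A M] [AddCommGroup N] [Module A' N] (l : M ≃+ N)
    (hl : ∀ (a : A) (m : M), l (a • m) = e a • l m) (h : RelFinitePresentation R A M) :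
    RelFinitePresentation R A' N := by
  obtain ⟨n, φ, hφ, hM⟩ := h
  refine ⟨n, e.toAlgHom.comp φ, e.surjective.comp hφ, ?_⟩
  letI : Module (MvPolynomial (Fin n) R) M := Module.compHom M φ.toRingHom
  letI : Module (MvPolynomial (Fin n) R) N := Module.compHom N (e.toAlgHom.comp φ).toRingHom
  let l' : M ≃ₗ[MvPolynomial (Fin n) R] N :=
    { l with map_smul' := fun p m => hl (φ p) m }
  exact l'.finitePresentation_iff.1 hM

/-- Relative finite presentation passes to a principal localization. -/
theorem rfp_away [Algebra.FiniteType R A] (g : A) (A' : Type u) [CommRing A'] [Algebra A A']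
    [Algebra R A'] [IsScalarTower R A A'] [IsLocalization.Away g A'] {M M' : Type u}
    [AddCommGroup M] [Module A M] [AddCommGroup M'] [Module A M'] [Module A' M']
    [IsScalarTower A A' M'] (φ : M →ₗ[A] M') [IsLocalizedModule (Submonoid.powers g) φ]
    (h : RelFinitePresentation R A M) : RelFinitePresentation R A' M' := by
  haveI : Algebra.FinitePresentation A A' := IsLocalization.Away.finitePresentation g
  have hb : IsBaseChange A' φ := IsLocalizedModule.isBaseChange (Submonoid.powers g) A' φ
  exact rfp_congr AlgEquiv.refl hb.equiv.toAddEquiv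
    (fun a m => map_smul hb.equiv a m) (rfp_tensor (B := A') h)

/-- Relative finite presentation is local for principal open covers. -/
theorem rfp_of_localizationSpan [Algebra.FiniteType R A] {ι : Type*} [Finite ι] (f : ι → A)
    (hf : Ideal.span (Set.range f) = ⊤) (A' : ι → Type u) [∀ i, CommRing (A' i)]
    [∀ i, Algebra A (A' i)] [∀ i, Algebra R (A' i)] [∀ i, IsScalarTower R A (A' i)]
    [∀ i, IsLocalization.Away (f i) (A' i)] {M : Type u} [AddCommGroup M] [Module A M]
    (M' : ι → Type u) [∀ i, AddCommGroup (M' i)] [∀ i, Module A (M' i)]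
    [∀ i, Module (A' i) (M' i)] [∀ i, IsScalarTower A (A' i) (M' i)]
    (φ : ∀ i, M →ₗ[A] M' i) [∀ i, IsLocalizedModule (Submonoid.powers (f i)) (φ i)]
    (h : ∀ i, RelFinitePresentation R (A' i) (M' i)) : RelFinitePresentation R A M := by
  classical
  obtain ⟨n, α, hα⟩ := exists_pres R A
  rw [rfp_iff α hα]
  let P := MvPolynomial (Fin n) R
  letI : Algebra P A := α.toRingHom.toAlgebra
  haveI : IsScalarTower R P A := IsScalarTower.of_algHom α
  letI : Module P M := Module.compHom M α.toRingHom
  haveI : IsScalarTower P A M := IsScalarTower.of_algebraMap_smul fun _ _ => rfl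
  show Module.FinitePresentation P M
  choose F hF using fun i => hα (f i)
  -- a cover of `Spec P`
  letI := Fintype.ofFinite ι
  obtain ⟨c, hc⟩ := (Ideal.mem_span_range_iff_exists_fun (R := A)).1
    (hf ▸ Submodule.mem_top : (1 : A) ∈ Ideal.span (Set.range f))
  choose C hC using fun i => hα (c i)
  let e : P := 1 - ∑ i, C i * F i
  have he : α e = 0 := by simp [e, map_sum, hC, hF, hc]
  let s : Set P := insert e (Set.range F)
  have hs : Ideal.span s = ⊤ := by
    rw [Ideal.eq_top_iff_one]
    have h1 : ∑ i, C i * F i ∈ Ideal.span s := Ideal.sum_mem _ fun i _ =>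
      Ideal.mul_mem_left _ _ (Ideal.subset_span (Or.inr ⟨i, rfl⟩))
    have h2 : e ∈ Ideal.span s := Ideal.subset_span (Or.inl rfl)
    simpa [e] using Ideal.add_mem _ h2 h1
  refine Module.FinitePresentation.of_localizationSpan s hs fun g => ?_
  obtain ⟨g, rfl | ⟨i, rfl⟩⟩ := g
  · haveI : Subsingleton (LocalizedModule.Away e M) :=
      LocalizedModule.subsingleton_iff.2 fun m =>
        ⟨e, Submonoid.mem_powers e, by
          show α e • m = 0
          rw [he, zero_smul]⟩
    infer_instance
  · let Q := Localization.Away (F i)
    haveI : Algebra.FinitePresentation P Q := IsLocalization.Away.finitePresentation (F i)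
    haveI : Algebra.FinitePresentation R Q := Algebra.FinitePresentation.trans R P Q
    letI : Algebra P (A' i) := ((algebraMap A (A' i)).comp α.toRingHom).toAlgebra
    haveI : IsScalarTower P A (A' i) := IsScalarTower.of_algebraMap_eq fun _ => rfl
    letI : Module P (M' i) := Module.compHom (M' i) α.toRingHom
    haveI : IsScalarTower P A (M' i) := IsScalarTower.of_algebraMap_smul fun _ _ => rfl
    let q : Q →+* A' i := IsLocalization.Away.lift (F i) (g := algebraMap P (A' i)) (by
      show IsUnit (algebraMap A (A' i) (α (F i)))
      rw [hF]; exact IsLocalization.Away.algebraMap_isUnit (f i))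
    have hq : ∀ p : P, q (algebraMap P Q p) = algebraMap A (A' i) (α p) :=
      IsLocalization.Away.lift_eq (F i) _
    let qR : Q →ₐ[R] A' i :=
      { toRingHom := q
        commutes' := fun r => by
          show q (algebraMap R Q r) = _
          rw [IsScalarTower.algebraMap_apply R P Q, hq, MvPolynomial.algebraMap_eq,
            ← MvPolynomial.algebraMap_eq, α.commutes, ← IsScalarTower.algebraMap_apply] }
    have hqs : Function.Surjective qR := by
      intro x
      obtain ⟨k, a, hx⟩ := IsLocalization.Away.surj (f i) x
      obtain ⟨p, rfl⟩ := hα a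
      refine ⟨algebraMap P Q p * (IsLocalization.Away.invSelf (F i)) ^ k, ?_⟩
      have hu : IsUnit (algebraMap A (A' i) (f i) ^ k) :=
        (IsLocalization.Away.algebraMap_isUnit (f i)).pow k
      apply hu.mul_left_inj.1
      show q _ * _ = x * _
      rw [hx, map_mul, map_pow, hq, mul_assoc, ← mul_pow]
      have : q (IsLocalization.Away.invSelf (F i)) * algebraMap A (A' i) (f i) = 1 := by
        rw [← hF i, ← hq, ← map_mul, mul_comm, IsLocalization.Away.mul_invSelf, map_one]
      rw [this, one_pow, mul_one]
    have hM' : FPVia q (M' i) := (rfp_iff qR hqs).1 (h i)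
    letI : Module Q (M' i) := Module.compHom (M' i) q
    haveI : IsScalarTower P Q (M' i) := IsScalarTower.of_algebraMap_smul fun p m => by
      show q (algebraMap P Q p) • m = α p • m
      rw [hq, algebraMap_smul]
    haveI : IsLocalizedModule (Submonoid.powers (F i)) ((φ i).restrictScalars P) := by
      haveI : IsLocalizedModule (Submonoid.powers (algebraMap P A (F i))) (φ i) := by
        rw [RingHom.algebraMap_toAlgebra]
        show IsLocalizedModule (Submonoid.powers (α (F i))) (φ i)
        rw [hF]; infer_instance
      exact IsLocalizedModule.restrictScalars_powers (F i) (φ i)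
    haveI : Module.FinitePresentation Q (M' i) := hM'
    let e' := IsLocalizedModule.iso (Submonoid.powers (F i)) ((φ i).restrictScalars P)
    exact (LinearEquiv.extendScalarsOfIsLocalization (Submonoid.powers (F i)) Q e')
      |>.finitePresentation_iff.2 hM'

end RelFPH13
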