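import Groth.Agent.Lib.RelFPH13.Local
import Groth.Agent.Lib.ModM1.Coh
import Groth.Agent.Lib.ModM1.Stalk
import Groth.Agent.Lib.ModLimH13.Sections
import Groth.Agent.Lib.FlatH4.PullFlat
import Groth.Prelude.Def_Flatn

/-!
# Relative finite presentation of quasi-coherent modules on affine opens
-/

set_option autoImplicit false
set_option linter.style.haveILetI false
set_option linter.unusedSectionVars false
universe u

open AlgebraicGeometry CategoryTheory Limits TensorProduct TopologicalSpace Opposite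
open Groth.Agent

namespace RelFPH13

variable {X S : Scheme.{u}}

/-- `Flatn.RelFPOn` on plain opens. -/
def OK (f : X ⟶ S) (F : X.Modules) (U : X.Opens) (V : S.Opens) (h : U ≤ f ⁻¹ᵁ V) : Prop :=
  letI := (f.appLE V U h).hom.toAlgebra
  FlatCA.RelFinitePresentation Γ(S, V) Γ(X, U) Γ(F, U)

theorem relFPOn_iff_ok (f : X ⟶ S) (F : X.Modules) (U : X.affineOpens) (V : S.affineOpens)
    (h : (U : X.Opens) ≤ f ⁻¹ᵁ (V : S.Opens)) :
    Flatn.RelFPOn f F U V h ↔ OK f F U V h :=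
  Iff.rfl

/-- The restriction algebra. -/
@[reducible] noncomputable def resAlg {U U' : X.Opens} (h : U' ≤ U) : Algebra Γ(X, U) Γ(X, U') :=
  (M1.ores h).hom.toAlgebra

section basic

variable (f : X ⟶ S) (F : X.Modules) [Coh.IsQCoh F]

theorem isLocalizedModule_mres {U : X.Opens} (hU : IsAffineOpen U) (g : Γ(X, U)) :
    letI := resAlg (X.basicOpen_le g)
    letI : Module Γ(X, U) Γ(F, X.basicOpen g) := Module.compHom _ (M1.ores (X.basicOpen_le g)).hom
    ∃ L : Γ(F, U) →ₗ[Γ(X, U)] Γ(F, X.basicOpen g),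
      IsLocalizedModule (Submonoid.powers g) L := by
  letI := resAlg (X.basicOpen_le g)
  letI : Module Γ(X, U) Γ(F, X.basicOpen g) := Module.compHom _ (M1.ores (X.basicOpen_le g)).hom
  haveI : IsScalarTower Γ(X, U) Γ(X, X.basicOpen g) Γ(F, X.basicOpen g) :=
    IsScalarTower.of_algebraMap_smul fun _ _ => rfl
  let L : Γ(F, U) →ₗ[Γ(X, U)] Γ(F, X.basicOpen g) :=
    { toFun := fun s => M1.mres F (X.basicOpen_le g) s
      map_add' := fun _ _ => map_add _ _ _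
      map_smul' := fun r s => M1.mres_smul F (X.basicOpen_le g) r s }
  refine ⟨L, ⟨?_, fun t => ?_, fun {x y} hxy => ?_⟩⟩
  · rintro ⟨_, k, rfl⟩
    haveI : IsLocalization.Away g Γ(X, X.basicOpen g) := hU.isLocalization_basicOpen g
    rw [Module.End.isUnit_iff]
    have hu : IsUnit (algebraMap Γ(X, U) Γ(X, X.basicOpen g) (g ^ k)) := by
      rw [map_pow]; exact (IsLocalization.Away.algebraMap_isUnit g).pow k
    refine ⟨fun a b hab => hu.smul_left_cancel.1 hab,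
      fun b => ⟨(↑(hu.unit⁻¹ : Γ(X, X.basicOpen g)ˣ) : Γ(X, X.basicOpen g)) • b, ?_⟩⟩
    show algebraMap Γ(X, U) Γ(X, X.basicOpen g) (g ^ k) •
      (↑(hu.unit⁻¹ : Γ(X, X.basicOpen g)ˣ) : Γ(X, X.basicOpen g)) • b = b
    rw [← mul_smul, IsUnit.mul_val_inv, one_smul]
  · obtain ⟨k, t₀, ht⟩ := M1.exists_pow_smul_eq_res_affine F hU g t
    refine ⟨⟨t₀, ⟨g ^ k, k, rfl⟩⟩, ?_⟩
    show (M1.ores (X.basicOpen_le g) (g ^ k)) • t = M1.mres F (X.basicOpen_le g) t₀
    rw [ht, map_pow]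
  · obtain ⟨n, hn⟩ := M1.exists_pow_smul_eq_zero_affine F hU g (x - y) (by
      rw [map_sub]; exact sub_eq_zero.2 hxy)
    refine ⟨⟨g ^ n, n, rfl⟩, ?_⟩
    rw [smul_sub, sub_eq_zero] at hn
    exact hn

variable [LocallyOfFiniteType f]

/-- Passing to a basic open of the source. -/
theorem ok_basicOpen {U : X.Opens} {V : S.Opens} (hU : IsAffineOpen U) (hV : IsAffineOpen V)
    (h : U ≤ f ⁻¹ᵁ V) (g : Γ(X, U)) (hok : OK f F U V h) :
    OK f F (X.basicOpen g) V ((X.basicOpen_le g).trans h) := by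
  letI := (f.appLE V U h).hom.toAlgebra
  letI := (f.appLE V (X.basicOpen g) ((X.basicOpen_le g).trans h)).hom.toAlgebra
  letI := resAlg (X.basicOpen_le g)
  letI : Module Γ(X, U) Γ(F, X.basicOpen g) := Module.compHom _ (M1.ores (X.basicOpen_le g)).hom
  haveI : IsScalarTower Γ(X, U) Γ(X, X.basicOpen g) Γ(F, X.basicOpen g) :=
    IsScalarTower.of_algebraMap_smul fun _ _ => rfl
  haveI : IsScalarTower Γ(S, V) Γ(X, U) Γ(X, X.basicOpen g) :=
    IsScalarTower.of_algebraMap_eq' (congrArg CommRingCat.Hom.hom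
      (Scheme.Hom.appLE_map f h (homOfLE (X.basicOpen_le g)).op)).symm
  haveI : IsLocalization.Away g Γ(X, X.basicOpen g) := hU.isLocalization_basicOpen g
  haveI : Algebra.FiniteType Γ(S, V) Γ(X, U) := f.finiteType_appLE hV hU h
  obtain ⟨L, hL⟩ := isLocalizedModule_mres F hU g
  exact rfp_away g Γ(X, X.basicOpen g) L hok

/-- The property is local on the source. -/
theorem ok_of_cover {U : X.Opens} {V : S.Opens} (hU : IsAffineOpen U) (hV : IsAffineOpen V)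
    (h : U ≤ f ⁻¹ᵁ V)
    (hc : ∀ x ∈ U, ∃ g : Γ(X, U), x ∈ X.basicOpen g ∧
      OK f F (X.basicOpen g) V ((X.basicOpen_le g).trans h)) :
    OK f F U V h := by
  classical
  let G : Set Γ(X, U) := {g | OK f F (X.basicOpen g) V ((X.basicOpen_le g).trans h)}
  have hG : Ideal.span G = ⊤ := hU.self_le_iSup_basicOpen_iff.1 fun x hx => by
    obtain ⟨g, hg, hok⟩ := hc x hx
    exact Opens.mem_iSup.2 ⟨⟨g, hok⟩, hg⟩
  obtain ⟨s, hsG, hs⟩ := (Ideal.span_eq_top_iff_finite G).1 hG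
  letI := (f.appLE V U h).hom.toAlgebra
  letI : ∀ i : s, Algebra Γ(S, V) Γ(X, X.basicOpen i.1) := fun i =>
    (f.appLE V (X.basicOpen i.1) ((X.basicOpen_le i.1).trans h)).hom.toAlgebra
  letI : ∀ i : s, Algebra Γ(X, U) Γ(X, X.basicOpen i.1) := fun i => resAlg (X.basicOpen_le i.1)
  letI : ∀ i : s, Module Γ(X, U) Γ(F, X.basicOpen i.1) := fun i =>
    Module.compHom _ (M1.ores (X.basicOpen_le i.1)).hom
  haveI : ∀ i : s, IsScalarTower Γ(X, U) Γ(X, X.basicOpen i.1) Γ(F, X.basicOpen i.1) := fun i =>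
    IsScalarTower.of_algebraMap_smul fun _ _ => rfl
  haveI : ∀ i : s, IsScalarTower Γ(S, V) Γ(X, U) Γ(X, X.basicOpen i.1) := fun i =>
    IsScalarTower.of_algebraMap_eq' (congrArg CommRingCat.Hom.hom
      (Scheme.Hom.appLE_map f h (homOfLE (X.basicOpen_le i.1)).op)).symm
  haveI : ∀ i : s, IsLocalization.Away i.1 Γ(X, X.basicOpen i.1) := fun i =>
    hU.isLocalization_basicOpen i.1
  haveI : Algebra.FiniteType Γ(S, V) Γ(X, U) := f.finiteType_appLE hV hU h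
  choose L hL using fun i : s => isLocalizedModule_mres F hU i.1
  haveI := hL
  exact rfp_of_localizationSpan (fun i : s => (i.1 : Γ(X, U)))
    (by
      rw [Subtype.range_coe_subtype]
      exact hs) (fun i => Γ(X, X.basicOpen i.1))
    (fun i => Γ(F, X.basicOpen i.1)) L fun i => hsG i.2

omit [LocallyOfFiniteType f] in
/-- Enlarging the base from a basic open. -/
theorem ok_of_basicOpen_base {U : X.Opens} {V : S.Opens} (hV : IsAffineOpen V) (b : Γ(S, V))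
    (h : U ≤ f ⁻¹ᵁ S.basicOpen b) (hok : OK f F U (S.basicOpen b) h) :
    OK f F U V (h.trans (f.preimage_mono (S.basicOpen_le b))) := by
  letI := (f.appLE V U (h.trans (f.preimage_mono (S.basicOpen_le b)))).hom.toAlgebra
  letI := (f.appLE (S.basicOpen b) U h).hom.toAlgebra
  letI := resAlg (S.basicOpen_le b)
  haveI : IsScalarTower Γ(S, V) Γ(S, S.basicOpen b) Γ(X, U) :=
    IsScalarTower.of_algebraMap_eq' (congrArg CommRingCat.Hom.hom
      (Scheme.Hom.map_appLE f h (homOfLE (S.basicOpen_le b)).op)).symm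
  haveI : IsLocalization.Away b Γ(S, S.basicOpen b) := hV.isLocalization_basicOpen b
  haveI : Algebra.FinitePresentation Γ(S, V) Γ(S, S.basicOpen b) :=
    IsLocalization.Away.finitePresentation b
  exact rfp_trans hok

omit [LocallyOfFiniteType f] in
/-- Shrinking the base to a basic open. -/
theorem ok_to_basicOpen_base {U : X.Opens} {V : S.Opens} (hV : IsAffineOpen V) (b : Γ(S, V))
    (h : U ≤ f ⁻¹ᵁ S.basicOpen b)
    (hok : OK f F U V (h.trans (f.preimage_mono (S.basicOpen_le b)))) :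
    OK f F U (S.basicOpen b) h := by
  letI := (f.appLE V U (h.trans (f.preimage_mono (S.basicOpen_le b)))).hom.toAlgebra
  letI := (f.appLE (S.basicOpen b) U h).hom.toAlgebra
  letI := resAlg (S.basicOpen_le b)
  haveI : IsScalarTower Γ(S, V) Γ(S, S.basicOpen b) Γ(X, U) :=
    IsScalarTower.of_algebraMap_eq' (congrArg CommRingCat.Hom.hom
      (Scheme.Hom.map_appLE f h (homOfLE (S.basicOpen_le b)).op)).symm
  haveI : IsLocalization.Away b Γ(S, S.basicOpen b) := hV.isLocalization_basicOpen b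
  haveI : IsLocalization (Algebra.algebraMapSubmonoid Γ(X, U) (Submonoid.powers b)) Γ(X, U) := by
    refine IsLocalization.of_le_isUnit_of_bijective ?_ Function.bijective_id
    rintro _ ⟨_, ⟨_, ⟨k, rfl⟩, rfl⟩, rfl⟩
    show IsUnit (algebraMap Γ(S, V) Γ(X, U) (b ^ k))
    rw [IsScalarTower.algebraMap_apply Γ(S, V) Γ(S, S.basicOpen b) Γ(X, U), map_pow, map_pow]
    exact ((IsLocalization.Away.algebraMap_isUnit b).map _).pow k
  haveI : Algebra.IsPushout Γ(S, V) Γ(X, U) Γ(S, S.basicOpen b) Γ(X, U) :=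
    Algebra.isPushout_of_isLocalization (Submonoid.powers b)
      Γ(S, S.basicOpen b) Γ(X, U) Γ(X, U)
  exact rfp_congr AlgEquiv.refl (TensorProduct.lid Γ(X, U) Γ(F, U)).toAddEquiv
    (fun a m => map_smul (TensorProduct.lid Γ(X, U) Γ(F, U)) a m)
    (rfp_baseChange (R' := Γ(S, S.basicOpen b)) (A' := Γ(X, U)) hok)

theorem ok_congr {U U' : X.Opens} {V V' : S.Opens} (hU : U = U') (hV : V = V') (h : U ≤ f ⁻¹ᵁ V) :
    OK f F U V h ↔ OK f F U' V' (hU ▸ hV ▸ h) := by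
  subst hU; subst hV; rfl

/-- Relative finite presentation may be tested on every pair of affine opens. -/
theorem ok_of_isRelFP (hF : Flatn.IsRelFP f F) {U : X.Opens} {V : S.Opens} (hU : IsAffineOpen U)
    (hV : IsAffineOpen V) (h : U ≤ f ⁻¹ᵁ V) : OK f F U V h := by
  obtain ⟨𝒱, h𝒱, hcov⟩ := hF
  refine ok_of_cover f F hU hV h fun x hx => ?_
  have hfx : f x ∈ (⊤ : S.Opens) := trivial
  rw [← h𝒱] at hfx
  simp only [Opens.mem_iSup] at hfx
  obtain ⟨V₁, hV₁, hfx₁⟩ := hfx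
  obtain ⟨𝒰, h𝒰, hok⟩ := hcov V₁ hV₁
  have hx₁ : x ∈ f ⁻¹ᵁ (V₁ : S.Opens) := hfx₁
  rw [← h𝒰] at hx₁
  simp only [Opens.mem_iSup] at hx₁
  obtain ⟨U₁, hU₁, hxU₁⟩ := hx₁
  have h₁ : (U₁ : X.Opens) ≤ f ⁻¹ᵁ (V₁ : S.Opens) := h𝒰 ▸ le_biSup _ hU₁
  obtain ⟨a, b, hab, hxa⟩ := exists_basicOpen_le_affine_inter hV V₁.2 (f x) ⟨h hx, hfx₁⟩
  obtain ⟨g₀, hg₀, hxg₀⟩ :=
    hU.exists_basicOpen_le (V := f ⁻¹ᵁ S.basicOpen a) ⟨x, hxa⟩ hx
  obtain ⟨g₁, g₂, hg, hxg⟩ :=
    exists_basicOpen_le_affine_inter (hU.basicOpen g₀) U₁.2 x ⟨hxg₀, hxU₁⟩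
  obtain ⟨g, hg'⟩ := hU.basicOpen_basicOpen_is_basicOpen g₀ g₁
  refine ⟨g, hg'.symm ▸ hxg, ?_⟩
  have hle₂ : X.basicOpen g₂ ≤ f ⁻¹ᵁ S.basicOpen b := by
    rw [← hg, ← hab]; exact (X.basicOpen_le g₁).trans hg₀
  have e2 := ok_basicOpen f F U₁.2 V₁.2 h₁ g₂ (hok U₁ hU₁ h₁)
  have e3 := ok_to_basicOpen_base f F V₁.2 b hle₂ e2
  have e4 := (ok_congr f F (hg.symm.trans hg'.symm) hab.symm hle₂).1 e3
  exact ok_of_basicOpen_base f F hV a _ e4

omit [Coh.IsQCoh F] [LocallyOfFiniteType f] in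
/-- A criterion by local verification. -/
theorem isRelFP_of_forall (H : ∀ (U : X.affineOpens) (V : S.affineOpens)
    (h : (U : X.Opens) ≤ f ⁻¹ᵁ (V : S.Opens)), Flatn.RelFPOn f F U V h) : Flatn.IsRelFP f F := by
  refine ⟨Set.univ, ?_, fun V _ => ⟨{U | (U : X.Opens) ≤ f ⁻¹ᵁ (V : S.Opens)}, ?_,
    fun U _ h => H U V h⟩⟩
  · rw [eq_top_iff]
    intro y _
    obtain ⟨V, hV, hyV, -⟩ := exists_isAffineOpen_mem_and_subset (x := y) (U := (⊤ : S.Opens)) trivial
    simp only [Opens.mem_iSup]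
    exact ⟨⟨V, hV⟩, trivial, hyV⟩
  · refine le_antisymm (iSup₂_le fun U hU => hU) fun x hx => ?_
    obtain ⟨U, hU, hxU, hUV⟩ :=
      exists_isAffineOpen_mem_and_subset (x := x) (U := f ⁻¹ᵁ (V : S.Opens)) hx
    simp only [Opens.mem_iSup]
    exact ⟨⟨U, hU⟩, hUV, hxU⟩

theorem isRelFP_iff : Flatn.IsRelFP f F ↔ ∀ (U : X.affineOpens) (V : S.affineOpens)
    (h : (U : X.Opens) ≤ f ⁻¹ᵁ (V : S.Opens)), Flatn.RelFPOn f F U V h :=
  ⟨fun hF U V h => ok_of_isRelFP f F hF U.2 V.2 h, isRelFP_of_forall f F⟩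

omit [Coh.IsQCoh F] [LocallyOfFiniteType f] in
/-- A pointwise criterion with a fixed-at-each-step base open. -/
theorem isRelFP_of_pointwise (H : ∀ y : S, ∃ V : S.affineOpens, y ∈ (V : S.Opens) ∧
    ∀ x : X, x ∈ f ⁻¹ᵁ (V : S.Opens) → ∃ (U : X.affineOpens)
      (h : (U : X.Opens) ≤ f ⁻¹ᵁ (V : S.Opens)),
      x ∈ (U : X.Opens) ∧ Flatn.RelFPOn f F U V h) : Flatn.IsRelFP f F := by
  choose V hyV hU using H
  refine ⟨Set.range V, ?_, ?_⟩
  · rw [eq_top_iff]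
    intro y _
    simp only [Opens.mem_iSup]
    exact ⟨V y, ⟨y, rfl⟩, hyV y⟩
  · rintro _ ⟨y, rfl⟩
    refine ⟨{U | ∃ h, Flatn.RelFPOn f F U (V y) h}, le_antisymm ?_ ?_, ?_⟩
    · exact iSup₂_le fun U hU => hU.1
    · intro x hx
      obtain ⟨U, h, hxU, hok⟩ := hU y x hx
      simp only [Opens.mem_iSup]
      exact ⟨U, ⟨h, hok⟩, hxU⟩
    · rintro U ⟨h, hok⟩ h'
      exact hok

end basic

end RelFPH13
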