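import Mathlib
import Groth.Prelude.Def_FlatCA

set_option autoImplicit false
set_option linter.style.haveILetI false
set_option linter.unusedSectionVars false
universe u

open TensorProduct

namespace RelFPH13

/-- `M` is finitely presented over `P` through `φ : P →+* A`. -/
def FPVia {P A : Type*} [CommRing P] [CommRing A] (φ : P →+* A) (M : Type*) [AddCommGroup M]
    [Module A M] : Prop :=
  @Module.FinitePresentation P M _ _ (Module.compHom M φ)

section basic

variable {P A : Type*} [CommRing P] [CommRing A] {M : Type*} [AddCommGroup M] [Module A M]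

theorem fpVia_congr {φ φ' : P →+* A} (h : φ = φ') : FPVia φ M ↔ FPVia φ' M := by subst h; rfl

/-- `FPVia` against an algebra structure. -/
theorem fpVia_algebraMap_iff [Algebra P A] [Module P M] [IsScalarTower P A M] :
    FPVia (algebraMap P A) M ↔ Module.FinitePresentation P M := by
  have h : Module.compHom M (algebraMap P A) = (inferInstance : Module P M) := by
    refine Module.ext' _ _ fun r m => ?_
    exact algebraMap_smul A r m
  rw [FPVia, h]

theorem fpVia_of_linearEquiv (φ : P →+* A) {N : Type*} [AddCommGroup N] [Module A N]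
    (e : M ≃ₗ[A] N) (h : FPVia φ M) : FPVia φ N := by
  letI : Module P M := Module.compHom M φ
  letI : Module P N := Module.compHom N φ
  let e' : M ≃ₗ[P] N :=
    { e.toAddEquiv with map_smul' := fun r m => e.map_smul (φ r) m }
  exact e'.finitePresentation_iff.1 h

theorem fpVia_linearEquiv_iff (φ : P →+* A) {N : Type*} [AddCommGroup N] [Module A N]
    (e : M ≃ₗ[A] N) : FPVia φ M ↔ FPVia φ N :=
  ⟨fpVia_of_linearEquiv φ e, fpVia_of_linearEquiv φ e.symm⟩

/-- A module structure restricted along a ring map does not change `FPVia`. -/
theorem fpVia_restrict_iff {B : Type*} [CommRing B] [Algebra A B] [Module B M] [IsScalarTower A B M]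
    (φ : P →+* A) : FPVia φ M ↔ FPVia ((algebraMap A B).comp φ) M := by
  have h : (Module.compHom M φ : Module P M) = Module.compHom M ((algebraMap A B).comp φ) := by
    refine Module.ext' _ _ fun r m => ?_
    exact (algebraMap_smul B (φ r) m).symm
  rw [FPVia, FPVia, h]

/-- Independence of the intermediate finite, finitely presented algebra. -/
theorem fpVia_comp_iff {T : Type*} [CommRing T] (ψ : T →+* P) (hfin : ψ.Finite)
    (hfp : ψ.FinitePresentation) (φ : P →+* A) : FPVia (φ.comp ψ) M ↔ FPVia φ M := by
  letI := ψ.toAlgebra
  letI : Module P M := Module.compHom M φ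
  letI : Module T M := Module.compHom M (φ.comp ψ)
  haveI : IsScalarTower T P M := by
    constructor
    intro t p m
    show φ (ψ t * p) • m = φ (ψ t) • (φ p • m)
    rw [map_mul, mul_smul]
  haveI : Module.Finite T P := hfin
  haveI : Algebra.FinitePresentation T P := hfp
  haveI : Module.FinitePresentation T P := .of_finite_of_finitePresentation T P
  show Module.FinitePresentation T M ↔ Module.FinitePresentation P M
  constructor
  · intro h
    haveI : Module.Finite P M := Module.Finite.of_restrictScalars_finite T P M
    obtain ⟨n, f, hf⟩ := Module.Finite.exists_fin' P M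
    haveI : Module.Finite T (Fin n → P) := Module.Finite.trans P _
    have hker : (LinearMap.ker (f.restrictScalars T)).FG :=
      Module.FinitePresentation.fg_ker (f.restrictScalars T) hf
    apply Module.finitePresentation_of_surjective f hf
    obtain ⟨s, hs⟩ := hker
    refine ⟨s, le_antisymm (Submodule.span_le.2 fun x hx => ?_) fun x hx => ?_⟩
    · have : x ∈ LinearMap.ker (f.restrictScalars T) := hs ▸ Submodule.subset_span hx
      simpa using this
    · have : x ∈ Submodule.span T (s : Set (Fin n → P)) := by rw [hs]; simpa using hx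
      exact Submodule.span_le_restrictScalars T P _ this
  · intro h
    exact Module.FinitePresentation.trans T M P

end basic

section compare

variable {R A : Type u} [CommRing R] [CommRing A] [Algebra R A] {M : Type u} [AddCommGroup M]
  [Module A M]

/-- Precomposing with a surjection of finitely presented algebras. -/
theorem fpVia_comp_surjective {P Q : Type u} [CommRing P] [CommRing Q] [Algebra R P] [Algebra R Q]
    [Algebra.FinitePresentation R P] [Algebra.FinitePresentation R Q] (π : P →ₐ[R] Q)
    (hπ : Function.Surjective π) (φ : Q →+* A) :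
    FPVia (φ.comp π.toRingHom) M ↔ FPVia φ M := by
  refine fpVia_comp_iff π.toRingHom (RingHom.Finite.of_surjective _ hπ) ?_ φ
  exact RingHom.FinitePresentation.of_surjective _ hπ
    (Algebra.FinitePresentation.ker_fG_of_surjective π hπ)

theorem fpVia_iff_of_mvPolynomial {ι κ : Type} [Finite ι] [Finite κ]
    (α : MvPolynomial ι R →ₐ[R] A) (hα : Function.Surjective α)
    (β : MvPolynomial κ R →ₐ[R] A) (hβ : Function.Surjective β) :
    FPVia α.toRingHom M ↔ FPVia β.toRingHom M := by
  choose u hu using fun j => hα (β (MvPolynomial.X j))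
  choose v hv using fun i => hβ (α (MvPolynomial.X i))
  let s : MvPolynomial (ι ⊕ κ) R →ₐ[R] MvPolynomial ι R :=
    MvPolynomial.aeval (Sum.elim MvPolynomial.X u)
  let t : MvPolynomial (ι ⊕ κ) R →ₐ[R] MvPolynomial κ R :=
    MvPolynomial.aeval (Sum.elim v MvPolynomial.X)
  have hs : Function.Surjective s := fun p => ⟨MvPolynomial.rename Sum.inl p, by
    rw [MvPolynomial.aeval_rename, Sum.elim_comp_inl, MvPolynomial.aeval_X_left]; rfl⟩
  have ht : Function.Surjective t := fun p => ⟨MvPolynomial.rename Sum.inr p, by
    rw [MvPolynomial.aeval_rename, Sum.elim_comp_inr, MvPolynomial.aeval_X_left]; rfl⟩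
  have e : α.comp s = β.comp t := MvPolynomial.algHom_ext fun i => by
    cases i with
    | inl i => simp [s, t, hv i]
    | inr j => simp [s, t, hu j]
  rw [← fpVia_comp_surjective s hs α.toRingHom, ← fpVia_comp_surjective t ht β.toRingHom]
  exact fpVia_congr (congrArg AlgHom.toRingHom e)

theorem fpVia_iff_fpVia {P Q : Type u} [CommRing P] [CommRing Q] [Algebra R P] [Algebra R Q]
    [Algebra.FinitePresentation R P] [Algebra.FinitePresentation R Q] (α : P →ₐ[R] A)
    (hα : Function.Surjective α) (β : Q →ₐ[R] A) (hβ : Function.Surjective β) :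
    FPVia α.toRingHom M ↔ FPVia β.toRingHom M := by
  obtain ⟨n, π, hπ, -⟩ := Algebra.FinitePresentation.out (R := R) (A := P)
  obtain ⟨m, ρ, hρ, -⟩ := Algebra.FinitePresentation.out (R := R) (A := Q)
  rw [← fpVia_comp_surjective π hπ α.toRingHom, ← fpVia_comp_surjective ρ hρ β.toRingHom]
  exact fpVia_iff_of_mvPolynomial (α.comp π) (hα.comp hπ) (β.comp ρ) (hβ.comp hρ)

/-- The relative finite presentation predicate, tested on any finitely presented cover. -/
theorem rfp_iff {Q : Type u} [CommRing Q] [Algebra R Q] [Algebra.FinitePresentation R Q]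
    (α : Q →ₐ[R] A) (hα : Function.Surjective α) :
    FlatCA.RelFinitePresentation R A M ↔ FPVia α.toRingHom M := by
  constructor
  · rintro ⟨n, φ, hφ, h⟩
    exact (fpVia_iff_fpVia φ hφ α hα).1 h
  · intro h
    obtain ⟨n, π, hπ, -⟩ := Algebra.FinitePresentation.out (R := R) (A := Q)
    exact ⟨n, α.comp π, hα.comp hπ, (fpVia_iff_fpVia α hα (α.comp π) (hα.comp hπ)).1 h⟩

end compare

section baseChange

/-- Base change along a pushout square `P → A`, `P → Q`, `B = Q ⊗_P A`. -/
theorem fpVia_isPushout (P Q A B : Type*) [CommRing P] [CommRing Q] [CommRing A] [CommRing B]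
    [Algebra P Q] [Algebra P A] [Algebra P B] [Algebra A B] [Algebra Q B]
    [IsScalarTower P A B] [IsScalarTower P Q B] [Algebra.IsPushout P Q A B]
    (M : Type*) [AddCommGroup M] [Module A M] (h : FPVia (algebraMap P A) M) :
    FPVia (algebraMap Q B) (B ⊗[A] M) := by
  letI : Module P M := Module.compHom M (algebraMap P A)
  haveI : IsScalarTower P A M := IsScalarTower.of_algebraMap_smul fun _ _ => rfl
  haveI : Module.FinitePresentation P M := h
  haveI : SMulCommClass A Q B := ⟨fun a q b => by
    simp only [Algebra.smul_def]; ring⟩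
  rw [fpVia_algebraMap_iff]
  exact (Algebra.IsPushout.cancelBaseChange P Q A B M).finitePresentation_iff.2 inferInstance

/-- Base change along a quotient by a finitely generated ideal. -/
theorem fpVia_quotient {T B B' : Type*} [CommRing T] [CommRing B] [CommRing B'] [Algebra B B']
    (hs : Function.Surjective (algebraMap B B')) (hI : (RingHom.ker (algebraMap B B')).FG)
    (φ : T →+* B) (N : Type*) [AddCommGroup N] [Module B N] (h : FPVia φ N) :
    FPVia ((algebraMap B B').comp φ) (B' ⊗[B] N) := by
  classical
  rw [← fpVia_restrict_iff (B := B') φ]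
  letI : Module T N := Module.compHom N φ
  letI : Module T (B' ⊗[B] N) := Module.compHom _ φ
  haveI : Module.FinitePresentation T N := h
  let q : N →ₗ[T] B' ⊗[B] N :=
    { toFun := fun m => (1 : B') ⊗ₜ m
      map_add' := fun x y => TensorProduct.tmul_add _ _ _
      map_smul' := fun t m => TensorProduct.tmul_smul (φ t) (1 : B') m }
  let q₀ : N →ₗ[B] B' ⊗[B] N := TensorProduct.mk B B' N 1
  have hq₀ : Function.Surjective q₀ := by
    intro z
    induction z with
    | zero => exact ⟨0, map_zero _⟩
    | tmul b n =>
      obtain ⟨b, rfl⟩ := hs b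
      exact ⟨b • n, by
        simp [q₀, Algebra.algebraMap_eq_smul_one, TensorProduct.smul_tmul]⟩
    | add x y hx hy =>
      obtain ⟨x', rfl⟩ := hx
      obtain ⟨y', rfl⟩ := hy
      exact ⟨x' + y', map_add _ _ _⟩
  have hker : LinearMap.ker q₀ = RingHom.ker (algebraMap B B') • ⊤ := by
    set I := RingHom.ker (algebraMap B B') with hIdef
    let e : (B ⧸ I) ≃ₐ[B] B' := Ideal.quotientKerAlgEquivOfSurjective (f := Algebra.ofId B B') hs
    have e1 : q₀ = (TensorProduct.congr e.toLinearEquiv (LinearEquiv.refl B N)).toLinearMap.comp
        (TensorProduct.mk B (B ⧸ I) N 1) := by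
      ext n
      simp [q₀]
    rw [e1, LinearMap.ker_comp, LinearEquiv.ker, Submodule.comap_bot,
      LinearMap.ker_tensorProductMk]
  have hfg : (LinearMap.ker q).FG := by
    obtain ⟨s, hs'⟩ := hI
    obtain ⟨g, hg⟩ := (Module.Finite.fg_top : (⊤ : Submodule T N).FG)
    refine ⟨Finset.image₂ (fun (b : B) (n : N) => b • n) s g, le_antisymm ?_ ?_⟩
    · rw [Submodule.span_le]
      intro x hx
      simp only [Finset.coe_image₂, Set.mem_image2] at hx
      obtain ⟨b, hb, n, -, rfl⟩ := hx
      show q₀ (b • n) = 0
      have : b • n ∈ LinearMap.ker q₀ := hker ▸ Submodule.smul_mem_smul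
        (hs' ▸ Submodule.subset_span hb) Submodule.mem_top
      exact this
    · intro x hx
      have hx' : x ∈ RingHom.ker (algebraMap B B') • (⊤ : Submodule B N) := hker ▸ (hx : q₀ x = 0)
      set W : Submodule T N := Submodule.span T
        ↑(Finset.image₂ (fun (b : B) (n : N) => b • n) s g) with hW
      have key : ∀ b ∈ s, ∀ n : N, b • n ∈ W := by
        intro b hb n
        have hn : n ∈ Submodule.span T (g : Set N) := hg ▸ Submodule.mem_top
        induction hn using Submodule.span_induction with
        | mem n hn =>
          exact Submodule.subset_span (by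
            simp only [Finset.coe_image₂]; exact ⟨b, hb, n, hn, rfl⟩)
        | zero => simp
        | add _ _ _ _ h1 h2 => rw [smul_add]; exact W.add_mem h1 h2
        | smul t n _ h1 =>
          have : b • t • n = t • b • n := smul_comm b (φ t) n
          rw [this]; exact W.smul_mem t h1
      have key' : ∀ b ∈ RingHom.ker (algebraMap B B'), ∀ n : N, b • n ∈ W := by
        intro b hb
        rw [← hs'] at hb
        induction hb using Submodule.span_induction with
        | mem b hb => exact key b hb
        | zero => intro n; simp
        | add _ _ _ _ h1 h2 => intro n; rw [add_smul]; exact W.add_mem (h1 n) (h2 n)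
        | smul c b _ h1 =>
          intro n
          rw [smul_eq_mul, mul_comm, mul_smul]
          exact h1 (c • n)
      refine Submodule.smul_induction_on hx' (fun b hb n _ => key' b hb n) fun _ _ h1 h2 =>
        W.add_mem h1 h2
  exact Module.finitePresentation_of_surjective q hq₀ hfg

end baseChange

end RelFPH13
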