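import Groth.Agent.Lib.RelFPH13.Basic

set_option autoImplicit false
set_option linter.style.haveILetI false
set_option linter.unusedSectionVars false
universe u

open TensorProduct FlatCA

attribute [local instance] MvPolynomial.algebraMvPolynomial

namespace RelFPH13

section

variable {R A B : Type u} [CommRing R] [CommRing A] [CommRing B] [Algebra R A] [Algebra A B]
  [Algebra R B] [IsScalarTower R A B]

/-- A surjection from a polynomial algebra exists for finite type algebras. -/
theorem exists_pres (R A : Type u) [CommRing R] [CommRing A] [Algebra R A]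
    [Algebra.FiniteType R A] :
    ∃ (n : ℕ) (α : MvPolynomial (Fin n) R →ₐ[R] A), Function.Surjective α :=
  Algebra.FiniteType.iff_quotient_mvPolynomial''.1 inferInstance

/-- Relative finite presentation is transitive along finitely presented algebras. -/
theorem rfp_trans [Algebra.FinitePresentation R A] {M : Type u} [AddCommGroup M] [Module B M]
    (h : RelFinitePresentation A B M) : RelFinitePresentation R B M := by
  obtain ⟨n, α, hα, hM⟩ := h
  haveI : Algebra.FinitePresentation R (MvPolynomial (Fin n) A) :=
    Algebra.FinitePresentation.trans R A _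
  exact (rfp_iff (α.restrictScalars R) hα).2 hM

/-- A quotient of a polynomial ring by an ideal containing a monic relation on each variable is
finite. -/
theorem finite_quot {P : Type u} [CommRing P] {σ : Type u} [Finite σ]
    (I : Ideal (MvPolynomial σ P))
    (hI : ∀ b : σ, ∃ g : Polynomial P, g.Monic ∧
      Polynomial.aeval (MvPolynomial.X b : MvPolynomial σ P) g ∈ I) :
    Module.Finite P (MvPolynomial σ P ⧸ I) := by
  haveI : Algebra.IsIntegral P (MvPolynomial σ P ⧸ I) := by
    constructor
    intro x
    obtain ⟨y, rfl⟩ := Ideal.Quotient.mkₐ_surjective P I x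
    induction y using MvPolynomial.induction_on with
    | C p =>
      rw [← MvPolynomial.algebraMap_eq, AlgHom.commutes]
      exact isIntegral_algebraMap
    | add p q hp hq => rw [map_add]; exact hp.add hq
    | mul_X p b hp =>
      rw [map_mul]
      obtain ⟨g, hg, hgI⟩ := hI b
      refine hp.mul ⟨g, hg, ?_⟩
      show Polynomial.aeval (Ideal.Quotient.mkₐ P I (MvPolynomial.X b)) g = 0
      rw [Polynomial.aeval_algHom_apply]
      exact Ideal.Quotient.eq_zero_iff_mem.2 hgI
  exact Algebra.IsIntegral.finite

/-- A finite algebra whose generators satisfy monic equations is covered by a finite, finitely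
presented algebra. -/
theorem exists_finite_fp_cover (P B : Type u) [CommRing P] [CommRing B] [Algebra P B]
    [Module.Finite P B] :
    ∃ (Q : Type u) (_ : CommRing Q) (_ : Algebra P Q), Module.Finite P Q ∧
      Algebra.FinitePresentation P Q ∧ ∃ f : Q →ₐ[P] B, Function.Surjective f := by
  classical
  obtain ⟨s, hs⟩ := (Module.Finite.fg_top : (⊤ : Submodule P B).FG)
  have hint : ∀ b : B, ∃ g : Polynomial P, g.Monic ∧ Polynomial.aeval b g = 0 := fun b =>
    Algebra.IsIntegral.isIntegral (R := P) b
  choose g hgm hg0 using hint
  let I : Ideal (MvPolynomial s P) := Ideal.span (Set.range fun b : s =>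
    Polynomial.aeval (MvPolynomial.X b : MvPolynomial s P) (g b.1))
  have hI : I ≤ RingHom.ker (MvPolynomial.aeval (R := P) fun b : s => (b.1 : B)) := by
    refine Ideal.span_le.2 ?_
    rintro _ ⟨b, rfl⟩
    show MvPolynomial.aeval (fun b : s => (b.1 : B)) _ = 0
    rw [← Polynomial.aeval_algHom_apply, MvPolynomial.aeval_X]
    exact hg0 b.1
  refine ⟨MvPolynomial s P ⧸ I, inferInstance, inferInstance,
    finite_quot I fun b => ⟨g b.1, hgm b.1, Ideal.subset_span ⟨b, rfl⟩⟩,
    Algebra.FinitePresentation.quotient (Submodule.fg_span (Set.finite_range _)),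
    Ideal.Quotient.liftₐ I _ fun a ha => hI ha, ?_⟩
  intro b
  have hb : b ∈ Submodule.span P (s : Set B) := hs ▸ Submodule.mem_top
  induction hb using Submodule.span_induction with
  | mem b hb =>
    exact ⟨Ideal.Quotient.mk I (MvPolynomial.X ⟨b, hb⟩), by
      show MvPolynomial.aeval (fun b : s => (b.1 : B)) (MvPolynomial.X ⟨b, hb⟩) = b
      rw [MvPolynomial.aeval_X]⟩
  | zero => exact ⟨0, map_zero _⟩
  | add _ _ _ _ h1 h2 =>
    obtain ⟨x, rfl⟩ := h1
    obtain ⟨y, rfl⟩ := h2
    exact ⟨x + y, map_add _ x y⟩
  | smul a b _ h1 =>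
    obtain ⟨x, rfl⟩ := h1
    exact ⟨a • x, map_smul _ a x⟩

/-- Relative finite presentation only depends on the module structure over a finite extension. -/
theorem rfp_finite_iff [Algebra.FiniteType R A] [Module.Finite A B] {M : Type u} [AddCommGroup M]
    [Module B M] [Module A M] [IsScalarTower A B M] :
    RelFinitePresentation R A M ↔ RelFinitePresentation R B M := by
  obtain ⟨n, α, hα⟩ := exists_pres R A
  let P := MvPolynomial (Fin n) R
  letI : Algebra P A := α.toRingHom.toAlgebra
  haveI : IsScalarTower R P A := IsScalarTower.of_algHom α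
  letI : Algebra P B := ((algebraMap A B).comp (algebraMap P A)).toAlgebra
  haveI : IsScalarTower P A B := IsScalarTower.of_algebraMap_eq fun _ => rfl
  haveI : IsScalarTower R P B := IsScalarTower.of_algebraMap_eq fun r => by
    rw [IsScalarTower.algebraMap_apply R A B, IsScalarTower.algebraMap_apply R P A]; rfl
  haveI : Module.Finite P A := Module.Finite.of_surjective (Algebra.linearMap P A) hα
  haveI : Module.Finite P B := Module.Finite.trans A B
  obtain ⟨Q, _, _, hQf, hQp, f, hf⟩ := exists_finite_fp_cover P B
  letI : Algebra R Q := ((algebraMap P Q).comp (algebraMap R P)).toAlgebra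
  haveI : IsScalarTower R P Q := IsScalarTower.of_algebraMap_eq fun _ => rfl
  haveI : Algebra.FinitePresentation R Q := Algebra.FinitePresentation.trans R P Q
  rw [rfp_iff α hα, rfp_iff (f.restrictScalars R) hf]
  have h1 : (f.restrictScalars R).toRingHom.comp (algebraMap P Q) =
      (algebraMap A B).comp α.toRingHom :=
    RingHom.ext fun p => f.commutes p
  rw [← fpVia_comp_iff (algebraMap P Q) (RingHom.finite_algebraMap.2 hQf)
    (RingHom.finitePresentation_algebraMap.2 hQp) (f.restrictScalars R).toRingHom, h1]
  exact fpVia_restrict_iff _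

/-- Base change along a finitely presented algebra. -/
theorem rfp_tensor [Algebra.FiniteType R A] [Algebra.FinitePresentation A B] {M : Type u}
    [AddCommGroup M] [Module A M] (h : RelFinitePresentation R A M) :
    RelFinitePresentation R B (B ⊗[A] M) := by
  obtain ⟨n, α, hα, hM⟩ := h
  obtain ⟨m, π, hπ, hker⟩ := Algebra.FinitePresentation.out (R := A) (A := B)
  let P := MvPolynomial (Fin n) R
  letI : Algebra P A := α.toRingHom.toAlgebra
  let Q := MvPolynomial (Fin m) P
  let C := MvPolynomial (Fin m) A
  haveI : IsScalarTower P Q C := IsScalarTower.of_algebraMap_eq fun x => by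
    show algebraMap P C x = MvPolynomial.map (algebraMap P A) (MvPolynomial.C x)
    rw [MvPolynomial.map_C, IsScalarTower.algebraMap_apply P A C, MvPolynomial.algebraMap_eq]
  haveI hPO : Algebra.IsPushout P Q A C :=
    inferInstanceAs (Algebra.IsPushout P (MvPolynomial (Fin m) P) A (MvPolynomial (Fin m) A))
  letI : Algebra C B := π.toRingHom.toAlgebra
  haveI : IsScalarTower A C B := IsScalarTower.of_algHom π
  have h1 : FPVia (algebraMap Q C) (C ⊗[A] M) := fpVia_isPushout P Q A C M hM
  have h2 := fpVia_quotient (B := C) (B' := B) hπ hker (algebraMap Q C) (C ⊗[A] M) h1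
  have h3 : FPVia ((algebraMap C B).comp (algebraMap Q C)) (B ⊗[A] M) :=
    fpVia_of_linearEquiv _ (TensorProduct.AlgebraTensorModule.cancelBaseChange A C B B M) h2
  haveI : Algebra.FinitePresentation R Q := Algebra.FinitePresentation.trans R P Q
  let φ : Q →ₐ[R] B :=
    { toRingHom := (algebraMap C B).comp (algebraMap Q C)
      commutes' := fun r => by
        show algebraMap C B (algebraMap Q C (algebraMap R Q r)) = algebraMap R B r
        rw [IsScalarTower.algebraMap_apply R P Q, ← IsScalarTower.algebraMap_apply P Q C,
          IsScalarTower.algebraMap_apply P A C, ← IsScalarTower.algebraMap_apply A C B,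
          IsScalarTower.algebraMap_apply R A B]
        exact congrArg _ (α.commutes r) }
  have hφ : Function.Surjective φ := hπ.comp (MvPolynomial.map_surjective _ hα)
  exact (rfp_iff φ hφ).2 h3

end

/-- Base change of the ground ring. -/
theorem rfp_baseChange {R A R' A' : Type u} [CommRing R] [CommRing A] [CommRing R'] [CommRing A']
    [Algebra R A] [Algebra R R'] [Algebra A A'] [Algebra R' A'] [Algebra R A']
    [IsScalarTower R A A'] [IsScalarTower R R' A'] [Algebra.IsPushout R A R' A']
    {M : Type u} [AddCommGroup M] [Module A M] (h : RelFinitePresentation R A M) :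
    RelFinitePresentation R' A' (A' ⊗[A] M) := by
  obtain ⟨n, α, hα, hM⟩ := h
  let P := MvPolynomial (Fin n) R
  let P' := MvPolynomial (Fin n) R'
  letI : Algebra P A := α.toRingHom.toAlgebra
  haveI : IsScalarTower R P A := IsScalarTower.of_algHom α
  haveI : IsScalarTower R P P' := IsScalarTower.of_algebraMap_eq fun r => by
    show algebraMap R P' r = MvPolynomial.map (algebraMap R R') (MvPolynomial.C r)
    rw [MvPolynomial.map_C, IsScalarTower.algebraMap_apply R R' P', MvPolynomial.algebraMap_eq]
  haveI : Algebra.IsPushout R P R' P' :=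
    inferInstanceAs (Algebra.IsPushout R (MvPolynomial (Fin n) R) R' (MvPolynomial (Fin n) R'))
  let ρ : P' →ₐ[R'] A' := MvPolynomial.aeval fun i => algebraMap A A' (α (MvPolynomial.X i))
  letI : Algebra P' A' := ρ.toRingHom.toAlgebra
  haveI : IsScalarTower R' P' A' := IsScalarTower.of_algHom ρ
  letI : Algebra P A' := ((algebraMap A A').comp (algebraMap P A)).toAlgebra
  haveI : IsScalarTower P A A' := IsScalarTower.of_algebraMap_eq fun _ => rfl
  haveI : IsScalarTower P P' A' := IsScalarTower.of_algebraMap_eq' <| MvPolynomial.ringHom_ext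
    (fun r => by
      show algebraMap A A' (α (MvPolynomial.C r)) = ρ (MvPolynomial.map _ (MvPolynomial.C r))
      rw [← MvPolynomial.algebraMap_eq, α.commutes, MvPolynomial.algebraMap_eq,
        MvPolynomial.map_C, ← MvPolynomial.algebraMap_eq, ρ.commutes,
        ← IsScalarTower.algebraMap_apply R A A', ← IsScalarTower.algebraMap_apply R R' A'])
    (fun i => by
      show algebraMap A A' (α (MvPolynomial.X i)) = ρ (MvPolynomial.map _ (MvPolynomial.X i))
      rw [MvPolynomial.map_X]
      show _ = MvPolynomial.aeval _ (MvPolynomial.X i)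
      rw [MvPolynomial.aeval_X])
  haveI : IsScalarTower R P' A' := IsScalarTower.of_algebraMap_eq fun r => by
    rw [IsScalarTower.algebraMap_apply R P P', ← IsScalarTower.algebraMap_apply P P' A',
      IsScalarTower.algebraMap_apply P A A', ← IsScalarTower.algebraMap_apply R P A,
      ← IsScalarTower.algebraMap_apply R A A']
  haveI : IsScalarTower R P A' := IsScalarTower.of_algebraMap_eq fun r => by
    rw [IsScalarTower.algebraMap_apply P A A', ← IsScalarTower.algebraMap_apply R P A,
      ← IsScalarTower.algebraMap_apply R A A']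
  haveI : Algebra.IsPushout R R' P P' := Algebra.IsPushout.symm inferInstance
  haveI : Algebra.IsPushout R R' A A' := Algebra.IsPushout.symm inferInstance
  haveI hPA : Algebra.IsPushout P A P' A' := (Algebra.IsPushout.comp_iff R P R' P').1 inferInstance
  haveI : Algebra.IsPushout P P' A A' := Algebra.IsPushout.symm hPA
  have h1 : FPVia (algebraMap P' A') (A' ⊗[A] M) := fpVia_isPushout P P' A A' M hM
  have hρ : Function.Surjective ρ := by
    intro x
    refine (Algebra.IsPushout.out (R := R) (S := R') (R' := A) (S' := A')).inductionOn x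
      (fun x => ∃ y, ρ y = x) ⟨0, map_zero ρ⟩ (fun a => ?_) (fun r x hx => ?_)
      (fun x y hx hy => ?_)
    · obtain ⟨p, rfl⟩ := hα a
      exact ⟨algebraMap P P' p, by
        show algebraMap P' A' (algebraMap P P' p) = _
        rw [← IsScalarTower.algebraMap_apply]; rfl⟩
    · obtain ⟨y, rfl⟩ := hx
      exact ⟨algebraMap R' P' r * y, by rw [map_mul, ρ.commutes, Algebra.smul_def]⟩
    · obtain ⟨a, rfl⟩ := hx
      obtain ⟨b, rfl⟩ := hy
      exact ⟨a + b, map_add ρ a b⟩
  exact (rfp_iff ρ hρ).2 h1

end RelFPH13
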